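import Cfsg.Agent.Lib.H33.Pc

/-! One home for the on-demand equation lemmas of `Rel`, so that no two files hold different copies. -/

set_option autoImplicit false

namespace Cfsg.Lib.EqX

theorem rel_eqns : True := by
  have := @Cfsg.Lib.H33.Rel.eq_def.{0}
  have := @Cfsg.Lib.H33.Rel.eq_1.{0}
  have := @Cfsg.Lib.H33.Rel.eq_2.{0}
  have := @Cfsg.Lib.H33.Rel.eq_3.{0}
  trivial

end Cfsg.Lib.EqX
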