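import Cfsg.Agent.Lib.OS.Ab

/-! One home for the on-demand equation lemmas of `nrm`, so that no two files hold different copies. -/

set_option autoImplicit false

namespace Cfsg.Lib.EqX

theorem nrm_eqns : True := by
  have := @Cfsg.Lib.OS.nrm.eq_def.{0, 0}
  have := @Cfsg.Lib.OS.nrm.eq_1.{0, 0}
  have := @Cfsg.Lib.OS.nrm.eq_2.{0, 0}
  trivial

end Cfsg.Lib.EqX
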